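import Groth.Agent.Lib.Decaying.Basic
import Groth.Agent.Lib.AdicExtra.Complete
import Mathlib.LinearAlgebra.TensorProduct.Tower
import Mathlib.RingTheory.TensorProduct.Basic
import Mathlib.RingTheory.Noetherian.Basic

/-!
Completed base change of adically free modules.
-/

set_option autoImplicit false
universe u

namespace GrothLib.Decaying

open W4c5adicflatcompl TensorProduct

variable {A B : Type u} [CommRing A] [CommRing B] [Algebra A B] {I : Ideal A} {J : Ideal B}

/-- A `B`-module which is `J`-complete is `I`-complete for `IB ⊆ J`. -/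
theorem isAdicComplete_restrict (hI : I.FG) (hIJ : I.map (algebraMap A B) ≤ J) (N : Type*) [AddCommGroup N]
    [Module A N] [Module B N] [IsScalarTower A B N] [IsAdicComplete J N] : IsAdicComplete I N := by
  have := AdicExtra.isAdicComplete_of_le (M := N) hIJ (hI.map _)
  exact (IsAdicComplete.map_algebraMap_iff I N).1 this

theorem isAdicFree_baseChange [IsNoetherianRing B] (hI : I.FG) (hIJ : I.map (algebraMap A B) ≤ J)
    (P : Type u) [AddCommGroup P] [Module A P] (hP : IsAdicFree I P) :
    IsAdicFree J (AdicCompletion J (B ⊗[A] P)) := by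
  classical
  obtain ⟨Z, ⟨e⟩⟩ := hP
  have hJ : J.FG := IsNoetherian.noetherian J
  let C := AdicCompletion J (B ⊗[A] P)
  let D := decaying J Z (AdicCompletion J B)
  have : IsAdicComplete J C := AdicCompletion.isAdicComplete hJ
  have : IsAdicComplete J (AdicCompletion J B) := AdicCompletion.isAdicComplete hJ
  have : IsAdicComplete J D := isAdicComplete_decaying hJ
  have : IsAdicComplete I D := isAdicComplete_restrict hI hIJ D
  have : IsAdicComplete I C := isAdicComplete_restrict hI hIJ C
  -- the map from the completed base change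
  obtain ⟨g₀, hg₀⟩ := exists_extension (I := I) (Z := Z) (M := D) fun z => single J z (AdicCompletion.of J B 1)
  let g : P →ₗ[A] D := g₀.comp e.toLinearMap
  let Φ : C →ₗ[B] D := (AdicCompletion.ofLinearEquiv J D).symm.toLinearMap.comp
    ((AdicCompletion.map J (g.liftBaseChange B)).restrictScalars B)
  have hΦ : ∀ (y : B ⊗[A] P), Φ (AdicCompletion.of J _ y) = g.liftBaseChange B y := fun y => by
    show (AdicCompletion.ofLinearEquiv J D).symm (AdicCompletion.map J _ (AdicCompletion.of J _ y)) = _
    rw [AdicCompletion.map_of, AdicCompletion.ofLinearEquiv_symm_of]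
  -- the inverse
  obtain ⟨Ψ, hΨ⟩ := exists_extension (I := J) (Z := Z) (M := C) fun z =>
    AdicCompletion.of J (B ⊗[A] P) (1 ⊗ₜ e.symm (single I z (AdicCompletion.of I A 1)))
  have h1 : Φ.comp Ψ = LinearMap.id := by
    refine hom_ext hJ fun z => ?_
    rw [LinearMap.comp_apply, hΨ, hΦ, LinearMap.liftBaseChange_tmul, one_smul, LinearMap.id_apply]
    show g₀ (e (e.symm _)) = _
    rw [e.apply_symm_apply, hg₀]
  have h2 : Ψ.comp Φ = LinearMap.id := by
    have key : ∀ p : P, Ψ (g p) = AdicCompletion.of J (B ⊗[A] P) (1 ⊗ₜ p) := by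
      have h := hom_ext (M := C) (φ := (Ψ.restrictScalars A).comp g₀)
        (ψ := (((AdicCompletion.of J (B ⊗[A] P)).restrictScalars A).comp (TensorProduct.mk A B P 1)).comp
          e.symm.toLinearMap) hI fun z => by
        show Ψ (g₀ _) = _
        rw [hg₀, hΨ]
        rfl
      intro p
      have := LinearMap.congr_fun h (e p)
      show Ψ (g₀ (e p)) = _
      refine this.trans ?_
      show AdicCompletion.of J _ ((1 : B) ⊗ₜ e.symm (e p)) = _
      rw [e.symm_apply_apply]
    have key2 : ∀ y : B ⊗[A] P, Ψ (Φ (AdicCompletion.of J _ y)) = AdicCompletion.of J _ y := by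
      intro y
      rw [hΦ]
      induction y using TensorProduct.induction_on with
      | zero => simp
      | tmul b p => rw [LinearMap.liftBaseChange_tmul, map_smul, key, ← map_smul, smul_tmul', smul_eq_mul, mul_one]
      | add a b ha hb => rw [map_add, map_add, map_add, ha, hb]
    refine LinearMap.ext fun x => eq_of_forall_sub_mem (I := J) fun n => ?_
    obtain ⟨y, hy⟩ := exists_sub_of_mem hJ n x
    have := map_mem (Ψ.comp Φ - LinearMap.id) hy
    simp only [map_sub, LinearMap.sub_apply, LinearMap.comp_apply, LinearMap.id_apply, key2, sub_self, sub_zero]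
      at this
    simpa using this
  exact ⟨Z, ⟨LinearEquiv.ofLinearMap Φ Ψ h1 h2⟩⟩

end GrothLib.Decaying
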