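import Groth.Prelude.Def_W4c5adicflatcomplDec
import Mathlib.RingTheory.AdicCompletion.Completeness
import Mathlib.RingTheory.AdicCompletion.Functoriality
import Mathlib.LinearAlgebra.Finsupp.LinearCombination

/-!
Modules of adically decaying functions: adic sums, completeness, the universal property.
-/

set_option autoImplicit false
universe u v w

namespace GrothLib.Decaying

open W4c5adicflatcompl

variable {A : Type u} [CommRing A] {I : Ideal A} {Z : Type v} {M : Type w} [AddCommGroup M] [Module A M]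
  {N : Type*} [AddCommGroup N] [Module A N]

theorem map_mem (φ : M →ₗ[A] N) {n : ℕ} {x : M} (hx : x ∈ (I ^ n • ⊤ : Submodule A M)) :
    φ x ∈ (I ^ n • ⊤ : Submodule A N) :=
  Submodule.smul_top_le_comap_smul_top (I ^ n) φ hx

theorem eq_zero_of_forall_mem [IsHausdorff I M] {x : M} (h : ∀ n, x ∈ (I ^ n • ⊤ : Submodule A M)) : x = 0 :=
  IsHausdorff.haus (inferInstance : IsHausdorff I M) x fun n => SModEq.zero.2 (h n)

theorem eq_of_forall_sub_mem [IsHausdorff I M] {x y : M}
    (h : ∀ n, x - y ∈ (I ^ n • ⊤ : Submodule A M)) : x = y :=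
  sub_eq_zero.1 (eq_zero_of_forall_mem h)

/-- The finite exceptional set of a decaying function at level `n`. -/
noncomputable def bad (f : decaying I Z M) (n : ℕ) : Finset Z := (f.2 n).toFinset

theorem mem_of_notMem_bad (f : decaying I Z M) {n : ℕ} {z : Z} (h : z ∉ bad f n) :
    f.1 z ∈ (I ^ n • ⊤ : Submodule A M) := by
  by_contra h'
  exact h (by simpa [bad] using h')

theorem sum_sub_mem (f : decaying I Z M) {n : ℕ} {S T : Finset Z}
    (hS : ∀ z, z ∉ S → f.1 z ∈ (I ^ n • ⊤ : Submodule A M)) (hT : ∀ z, z ∉ T → f.1 z ∈ (I ^ n • ⊤ : Submodule A M)) :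
    (∑ z ∈ S, f.1 z) - ∑ z ∈ T, f.1 z ∈ (I ^ n • ⊤ : Submodule A M) := by
  classical
  have h : ∀ (U V : Finset Z), (∀ z, z ∉ V → f.1 z ∈ (I ^ n • ⊤ : Submodule A M)) → V ⊆ U →
      (∑ z ∈ U, f.1 z) - ∑ z ∈ V, f.1 z ∈ (I ^ n • ⊤ : Submodule A M) := fun U V hV hVU => by
    rw [← Finset.sum_sdiff hVU, add_sub_cancel_right]
    exact Submodule.sum_mem _ fun z hz => hV z (Finset.mem_sdiff.1 hz).2
  have h1 := h (S ∪ T) S hS Finset.subset_union_left
  have h2 := h (S ∪ T) T hT Finset.subset_union_right
  simpa using Submodule.sub_mem _ h2 h1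

section sum

variable [IsAdicComplete I M]

theorem exists_sum (f : decaying I Z M) :
    ∃ L : M, ∀ n, (∑ z ∈ bad f n, f.1 z) ≡ L [SMOD (I ^ n • ⊤ : Submodule A M)] :=
  IsPrecomplete.prec (inferInstance : IsPrecomplete I M) fun {m n} h => by
    rw [SModEq.sub_mem]
    exact sum_sub_mem f (fun z hz => mem_of_notMem_bad f hz)
      fun z hz => Submodule.smul_mono_left (Ideal.pow_le_pow_right h) (mem_of_notMem_bad f hz)

/-- The adically convergent sum, before bundling. -/
noncomputable def sumFun (f : decaying I Z M) : M := (exists_sum f).choose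

theorem sumFun_sub_mem (f : decaying I Z M) {n : ℕ} {S : Finset Z}
    (hS : ∀ z, z ∉ S → f.1 z ∈ (I ^ n • ⊤ : Submodule A M)) :
    sumFun f - ∑ z ∈ S, f.1 z ∈ (I ^ n • ⊤ : Submodule A M) := by
  have h1 := SModEq.sub_mem.1 ((exists_sum f).choose_spec n).symm
  have h2 := sum_sub_mem f (fun z hz => mem_of_notMem_bad f hz) hS
  simpa [sumFun] using Submodule.add_mem _ h1 h2

theorem sumFun_add (f g : decaying I Z M) : sumFun (f + g) = sumFun f + sumFun g := by
  classical
  refine eq_of_forall_sub_mem (I := I) fun n => ?_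
  have hf : ∀ z, z ∉ bad f n ∪ bad g n → f.1 z ∈ (I ^ n • ⊤ : Submodule A M) := fun z hz =>
    mem_of_notMem_bad f fun h => hz (Finset.mem_union_left _ h)
  have hg : ∀ z, z ∉ bad f n ∪ bad g n → g.1 z ∈ (I ^ n • ⊤ : Submodule A M) := fun z hz =>
    mem_of_notMem_bad g fun h => hz (Finset.mem_union_right _ h)
  have h1 := sumFun_sub_mem (f + g) (S := bad f n ∪ bad g n) fun z hz => Submodule.add_mem _ (hf z hz) (hg z hz)
  simp only [Submodule.coe_add, Pi.add_apply, Finset.sum_add_distrib] at h1
  have := Submodule.sub_mem _ h1 (Submodule.add_mem _ (sumFun_sub_mem f hf) (sumFun_sub_mem g hg))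
  convert! this using 1
  abel

theorem sumFun_smul (a : A) (f : decaying I Z M) : sumFun (a • f) = a • sumFun f := by
  refine eq_of_forall_sub_mem (I := I) fun n => ?_
  have hf : ∀ z, z ∉ bad f n → f.1 z ∈ (I ^ n • ⊤ : Submodule A M) := fun z hz => mem_of_notMem_bad f hz
  have h1 := sumFun_sub_mem (a • f) (S := bad f n) fun z hz => Submodule.smul_mem _ a (hf z hz)
  have h2 := Submodule.smul_mem _ a (sumFun_sub_mem f hf)
  simp only [Submodule.coe_smul, Pi.smul_apply] at h1
  rw [smul_sub, Finset.smul_sum] at h2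
  simpa using Submodule.sub_mem _ h1 h2

variable (I Z M) in
/-- The adically convergent sum. -/
noncomputable def adicSum : decaying I Z M →ₗ[A] M where
  toFun := sumFun
  map_add' := sumFun_add
  map_smul' := sumFun_smul

theorem adicSum_sub_mem (f : decaying I Z M) {n : ℕ} {S : Finset Z}
    (hS : ∀ z, z ∉ S → f.1 z ∈ (I ^ n • ⊤ : Submodule A M)) :
    adicSum I Z M f - ∑ z ∈ S, f.1 z ∈ (I ^ n • ⊤ : Submodule A M) :=
  sumFun_sub_mem f hS

theorem adicSum_single [DecidableEq Z] (z : Z) (m : M) : adicSum I Z M (single I z m) = m := by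
  refine eq_of_forall_sub_mem (I := I) fun n => ?_
  have h := adicSum_sub_mem (single I z m) (n := n) (S := {z}) fun z' hz' => by
    rw [coe_single, Pi.single_eq_of_ne (by simpa using hz')]
    exact zero_mem _
  simpa using h

theorem adicSum_mem (f : decaying I Z M) {n : ℕ} (h : ∀ z, f.1 z ∈ (I ^ n • ⊤ : Submodule A M)) :
    adicSum I Z M f ∈ (I ^ n • ⊤ : Submodule A M) := by
  simpa using adicSum_sub_mem f (S := ∅) fun z _ => h z

end sum

variable (I Z) in
/-- Postcomposition with a family of linear maps. -/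
def mapDecay (φ : Z → (M →ₗ[A] N)) : decaying I Z M →ₗ[A] decaying I Z N where
  toFun f := ⟨fun z => φ z (f.1 z), fun n => (f.2 n).subset fun z hz h => hz (map_mem _ h)⟩
  map_add' f g := Subtype.ext (funext fun z => (φ z).map_add _ _)
  map_smul' a f := Subtype.ext (funext fun z => (φ z).map_smul _ _)

@[simp] theorem mapDecay_apply (φ : Z → (M →ₗ[A] N)) (f : decaying I Z M) (z : Z) :
    (mapDecay I Z φ f).1 z = φ z (f.1 z) := rfl

/-- Decaying functions lift along surjections onto separated modules. -/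
theorem exists_lift [IsHausdorff I N] (φ : M →ₗ[A] N) (hφ : Function.Surjective φ) (g : decaying I Z N) :
    ∃ f : decaying I Z M, ∀ z, φ (f.1 z) = g.1 z := by
  classical
  have hle : ∀ n, (I ^ n • ⊤ : Submodule A N) = (I ^ n • ⊤ : Submodule A M).map φ := fun n => by
    rw [Submodule.map_smul'', Submodule.map_top, LinearMap.range_eq_top.2 hφ]
  have key : ∀ z, ∃ x : M, φ x = g.1 z ∧
      ∀ k, g.1 z ∈ (I ^ k • ⊤ : Submodule A N) → x ∈ (I ^ k • ⊤ : Submodule A M) := by
    intro z
    by_cases hz : g.1 z = 0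
    · exact ⟨0, by rw [hz, map_zero], fun k _ => zero_mem _⟩
    · have hex : ∃ k, g.1 z ∉ (I ^ k • ⊤ : Submodule A N) := by
        by_contra h
        push Not at h
        exact hz (eq_zero_of_forall_mem h)
      obtain ⟨k, hk⟩ : ∃ k, Nat.find hex = k + 1 := by
        refine Nat.exists_eq_succ_of_ne_zero fun h => ?_
        have := Nat.find_spec hex
        rw [h, pow_zero, Ideal.one_eq_top, Submodule.top_smul] at this
        exact this trivial
      have hmem : g.1 z ∈ (I ^ k • ⊤ : Submodule A N) := by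
        by_contra h
        have := Nat.find_min' hex h
        omega
      rw [hle] at hmem
      obtain ⟨x, hx, hxz⟩ := hmem
      refine ⟨x, hxz, fun j hj => Submodule.smul_mono_left (Ideal.pow_le_pow_right ?_) hx⟩
      by_contra hlt
      exact Nat.find_spec hex (Submodule.smul_mono_left (Ideal.pow_le_pow_right (by omega)) hj)
  choose x hx hx' using key
  exact ⟨⟨x, fun n => (g.2 n).subset fun z hz h => hz (hx' z n h)⟩, hx⟩

/-- For a finitely generated ideal, a decaying function with values in `Iⁿ M` lies in `Iⁿ • D`. -/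
theorem mem_smul_top_iff [IsHausdorff I M] (hI : I.FG) (f : decaying I Z M) (n : ℕ) :
    f ∈ (I ^ n • ⊤ : Submodule A (decaying I Z M)) ↔ ∀ z, f.1 z ∈ (I ^ n • ⊤ : Submodule A M) := by
  refine ⟨fun h z => map_mem ((LinearMap.proj z).comp (decaying I Z M).subtype) h, fun h => ?_⟩
  classical
  obtain ⟨r, a, ha⟩ := Submodule.fg_iff_exists_fin_generating_family.1 (hI.pow (n := n))
  have key : ∀ z, ∃ x : Fin r → M, ∑ i, a i • x i = f.1 z ∧
      ∀ i j, f.1 z ∈ (I ^ (n + j) • ⊤ : Submodule A M) → x i ∈ (I ^ j • ⊤ : Submodule A M) := by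
    intro z
    by_cases hz : f.1 z = 0
    · exact ⟨0, by simp [hz], fun i j _ => zero_mem _⟩
    · have hex : ∃ k, f.1 z ∉ (I ^ (n + k) • ⊤ : Submodule A M) := by
        by_contra hall
        push Not at hall
        exact hz (eq_zero_of_forall_mem fun m => Submodule.smul_mono_left (Ideal.pow_le_pow_right (by omega)) (hall m))
      obtain ⟨k, hk⟩ : ∃ k, Nat.find hex = k + 1 :=
        Nat.exists_eq_succ_of_ne_zero fun h0 => Nat.find_spec hex (by rw [h0, add_zero]; exact h z)
      have hmem : f.1 z ∈ (I ^ (n + k) • ⊤ : Submodule A M) := by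
        by_contra h'
        have := Nat.find_min' hex h'
        omega
      rw [pow_add, Submodule.mul_smul, ← ha] at hmem
      obtain ⟨c, hc, hsum⟩ : ∃ c : Fin r → M, (∀ i, c i ∈ (I ^ k • ⊤ : Submodule A M)) ∧ ∑ i, a i • c i = f.1 z := by
        refine Submodule.smul_induction_on hmem (fun b hb m hm => ?_) (fun x y hx hy => ?_)
        · obtain ⟨d, rfl⟩ := (Submodule.mem_span_range_iff_exists_fun A).1 hb
          refine ⟨fun i => d i • m, fun i => Submodule.smul_mem _ _ hm, ?_⟩
          rw [Finset.sum_smul]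
          exact Finset.sum_congr rfl fun i _ => by rw [smul_smul, smul_eq_mul, mul_comm]
        · obtain ⟨c, hc, hcs⟩ := hx
          obtain ⟨d, hd, hds⟩ := hy
          exact ⟨c + d, fun i => add_mem (hc i) (hd i), by simp [Finset.sum_add_distrib, hcs, hds]⟩
      refine ⟨c, hsum, fun i j hj => Submodule.smul_mono_left (Ideal.pow_le_pow_right ?_) (hc i)⟩
      by_contra hlt
      exact Nat.find_spec hex (Submodule.smul_mono_left (Ideal.pow_le_pow_right (by omega)) hj)
  choose x hx hx' using key
  let g : Fin r → decaying I Z M := fun i =>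
    ⟨fun z => x z i, fun j => (f.2 (n + j)).subset fun z hz hmem => hz (hx' z i j hmem)⟩
  have hf : f = ∑ i, a i • g i := by
    refine Subtype.ext (funext fun z => ?_)
    rw [AddSubmonoidClass.coe_finsetSum, Finset.sum_apply, ← hx z]
    rfl
  rw [hf]
  exact Submodule.sum_mem _ fun i _ => Submodule.smul_mem_smul (ha ▸ Submodule.subset_span ⟨i, rfl⟩) trivial

theorem isAdicComplete_decaying [IsAdicComplete I M] (hI : I.FG) : IsAdicComplete I (decaying I Z M) := by
  have hH : IsHausdorff I (decaying I Z M) := ⟨fun f hf => Subtype.ext (funext fun z =>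
    eq_zero_of_forall_mem fun n => map_mem ((LinearMap.proj z).comp (decaying I Z M).subtype) (SModEq.zero.1 (hf n)))⟩
  have hP : IsPrecomplete I (decaying I Z M) := ⟨fun F hF => by
    have hz : ∀ z, ∃ L, ∀ n, (F n).1 z ≡ L [SMOD (I ^ n • ⊤ : Submodule A M)] := fun z =>
      IsPrecomplete.prec (inferInstance : IsPrecomplete I M) fun {m n} h => by
        rw [SModEq.sub_mem]
        exact map_mem ((LinearMap.proj z).comp (decaying I Z M).subtype) (SModEq.sub_mem.1 (hF h))
    choose L hL using hz
    have hLd : L ∈ decaying I Z M := fun n => ((F n).2 n).subset fun z hz hmem => hz (by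
      have := Submodule.sub_mem _ hmem (SModEq.sub_mem.1 (hL z n))
      simpa using this)
    refine ⟨⟨L, hLd⟩, fun n => ?_⟩
    rw [SModEq.sub_mem, mem_smul_top_iff hI]
    exact fun z => SModEq.sub_mem.1 (hL z n)⟩
  exact {hH, hP with}

variable (I) in
/-- The extension to `Â` of `a ↦ a • m`, for `M` complete. -/
noncomputable def extend [IsAdicComplete I M] (m : M) : AdicCompletion I A →ₗ[A] M :=
  (AdicCompletion.ofLinearEquiv I M).symm.toLinearMap.comp
    ((AdicCompletion.map I (LinearMap.toSpanSingleton A M m)).restrictScalars A)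

theorem extend_of [IsAdicComplete I M] (m : M) (a : A) : extend I m (AdicCompletion.of I A a) = a • m := by
  show (AdicCompletion.ofLinearEquiv I M).symm (AdicCompletion.map I _ (AdicCompletion.of I A a)) = _
  rw [AdicCompletion.map_of, AdicCompletion.ofLinearEquiv_symm_of, LinearMap.toSpanSingleton_apply]

theorem exists_sub_of_mem (hI : I.FG) (n : ℕ) (x : AdicCompletion I M) :
    ∃ y : M, x - AdicCompletion.of I M y ∈ (I ^ n • ⊤ : Submodule A (AdicCompletion I M)) := by
  obtain ⟨y, hy⟩ := Submodule.mkQ_surjective _ (AdicCompletion.eval I M n x)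
  refine ⟨y, ?_⟩
  rw [AdicCompletion.pow_smul_top_eq_ker_eval hI, LinearMap.mem_ker, map_sub, AdicCompletion.eval_of, hy, sub_self]

theorem single_add [DecidableEq Z] (z : Z) (x y : M) : single I z (x + y) = single I z x + single I z y :=
  Subtype.ext (Pi.single_add (f := fun _ : Z => M) z x y)

theorem single_smul [DecidableEq Z] (z : Z) (a : A) (x : M) : single I z (a • x) = a • single I z x :=
  Subtype.ext (Pi.single_smul (f := fun _ : Z => M) z a x)

/-- Linear maps out of `D(Â)` into separated modules are determined on the `single z 1`. -/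
theorem hom_ext [DecidableEq Z] [IsHausdorff I M] (hI : I.FG)
    {φ ψ : decaying I Z (AdicCompletion I A) →ₗ[A] M}
    (h : ∀ z, φ (single I z (AdicCompletion.of I A 1)) = ψ (single I z (AdicCompletion.of I A 1))) : φ = ψ := by
  refine LinearMap.ext fun g => eq_of_forall_sub_mem (I := I) fun n => ?_
  choose a ha using fun z => exists_sub_of_mem hI n (g.1 z)
  let h0 : decaying I Z (AdicCompletion I A) :=
    ∑ z ∈ bad g n, a z • single I z (AdicCompletion.of I A 1)
  have hh0 : φ h0 = ψ h0 := by simp [h0, h]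
  have hd : g - h0 ∈ (I ^ n • ⊤ : Submodule A (decaying I Z (AdicCompletion I A))) := by
    have := AdicCompletion.isAdicComplete (I := I) (M := A) hI
    rw [mem_smul_top_iff hI]
    intro w
    show g.1 w - h0.1 w ∈ _
    rw [AddSubmonoidClass.coe_finsetSum, Finset.sum_apply]
    by_cases hw : w ∈ bad g n
    · rw [Finset.sum_eq_single w]
      · simpa [← map_smul] using ha w
      · intro z _ hzw
        simp [Pi.single_eq_of_ne (Ne.symm hzw)]
      · exact fun h' => absurd hw h'
    · rw [Finset.sum_eq_zero fun z hz => ?_, sub_zero]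
      · exact mem_of_notMem_bad g hw
      · have : w ≠ z := fun e => hw (e ▸ hz)
        simp [Pi.single_eq_of_ne this]
  have := map_mem (φ - ψ) hd
  rw [LinearMap.sub_apply, map_sub, map_sub, hh0] at this
  simpa using this

theorem exists_extension [DecidableEq Z] [IsAdicComplete I M] (f : Z → M) :
    ∃ φ : decaying I Z (AdicCompletion I A) →ₗ[A] M,
      ∀ z, φ (single I z (AdicCompletion.of I A 1)) = f z := by
  refine ⟨(adicSum I Z M).comp (mapDecay I Z fun z => extend I (f z)), fun z => ?_⟩
  have : mapDecay I Z (fun z => extend I (f z)) (single I z (AdicCompletion.of I A 1)) = single I z (f z) := by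
    refine Subtype.ext (funext fun w => ?_)
    rw [mapDecay_apply, coe_single, coe_single]
    rcases eq_or_ne w z with rfl | hw
    · rw [Pi.single_eq_same, Pi.single_eq_same, extend_of, one_smul]
    · rw [Pi.single_eq_of_ne hw, Pi.single_eq_of_ne hw, map_zero]
  rw [LinearMap.comp_apply, this, adicSum_single]

/-- Successive approximation: generators modulo `I` generate adically. -/
theorem exists_decaying_of_span [IsAdicComplete I A] [IsAdicComplete I M] (m : Z → M)
    (h : Submodule.span A (Set.range m) ⊔ I • ⊤ = ⊤) (x : M) :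
    ∃ g : Z → A, g ∈ decaying I Z A ∧
      ∀ n : ℕ, ∃ S : Finset Z, (∀ z, z ∉ S → g z • m z ∈ (I ^ n • ⊤ : Submodule A M)) ∧
        x - (∑ z ∈ S, g z • m z) ∈ (I ^ n • ⊤ : Submodule A M) := by
  classical
  let Φ := Finsupp.linearCombination A m
  have hΦ : ∀ l : Z →₀ A, Φ l = l.sum fun z c => c • m z := fun l => Finsupp.linearCombination_apply A l
  have hstep : ∀ (n : ℕ) (y : M), y ∈ (I ^ n • ⊤ : Submodule A M) →
      ∃ c : Z →₀ A, (∀ z, c z ∈ I ^ n) ∧ y - Φ c ∈ (I ^ (n + 1) • ⊤ : Submodule A M) := by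
    intro n y hy
    rw [← h, Submodule.smul_sup, ← Submodule.mul_smul, ← pow_succ] at hy
    obtain ⟨p, hp, q, hq, rfl⟩ := Submodule.mem_sup.1 hy
    obtain ⟨c, hc, rfl⟩ := (Submodule.mem_ideal_smul_span_iff_exists_sum _ _ _).1 hp
    exact ⟨c, hc, by rw [hΦ, add_sub_cancel_left]; exact hq⟩
  choose! c hc hcy using hstep
  let y : ℕ → M := fun n => Nat.rec x (fun k yk => yk - Φ (c k yk)) n
  have hy : ∀ n, y n ∈ (I ^ n • ⊤ : Submodule A M) := by
    intro n
    induction n with
    | zero => simp [y]
    | succ k ih => exact hcy k _ ih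
  have hsum : ∀ n, x - Φ (∑ k ∈ Finset.range n, c k (y k)) = y n := by
    intro n
    induction n with
    | zero => simp [y]
    | succ k ih => rw [Finset.sum_range_succ, map_add, ← sub_sub, ih]
  let s : Z → decaying I ℕ A := fun z => ⟨fun k => c k (y k) z, fun n => (Set.finite_Iio n).subset fun k hk => by
    by_contra hlt
    refine hk (Submodule.smul_mono_left (Ideal.pow_le_pow_right (not_lt.1 hlt)) ?_)
    simpa using hc k (y k) (hy k) z⟩
  have hg : ∀ z n, adicSum I ℕ A (s z) - (∑ k ∈ Finset.range n, c k (y k)) z ∈ (I ^ n • ⊤ : Submodule A A) := by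
    intro z n
    rw [Finsupp.finsetSum_apply]
    refine adicSum_sub_mem (s z) fun k hk => ?_
    refine Submodule.smul_mono_left (Ideal.pow_le_pow_right (by simpa using hk)) ?_
    simpa using hc k (y k) (hy k) z
  let g : Z → A := fun z => adicSum I ℕ A (s z)
  have hout : ∀ n z, z ∉ (∑ k ∈ Finset.range n, c k (y k)).support → g z ∈ (I ^ n • ⊤ : Submodule A A) :=
    fun n z hz => by simpa [g, Finsupp.notMem_support_iff.1 hz] using hg z n
  have hgd : g ∈ decaying I Z A := fun n =>
    (∑ k ∈ Finset.range n, c k (y k)).support.finite_toSet.subset fun z hz => by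
      by_contra h'
      exact hz (hout n z h')
  refine ⟨g, hgd, fun n => ⟨(∑ k ∈ Finset.range n, c k (y k)).support,
    fun z hz => map_mem (LinearMap.toSpanSingleton A M (m z)) (hout n z hz), ?_⟩⟩
  have h2 : Φ (∑ k ∈ Finset.range n, c k (y k)) -
      ∑ z ∈ (∑ k ∈ Finset.range n, c k (y k)).support, g z • m z ∈ (I ^ n • ⊤ : Submodule A M) := by
    rw [hΦ, Finsupp.sum, ← Finset.sum_sub_distrib]
    refine Submodule.sum_mem _ fun z _ => ?_
    rw [← sub_smul]
    refine map_mem (LinearMap.toSpanSingleton A M (m z)) ?_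
    have h4 := Submodule.neg_mem _ (hg z n)
    rw [neg_sub] at h4
    exact h4
  have h3 := Submodule.add_mem _ ((hsum n).symm ▸ hy n : x - Φ _ ∈ (I ^ n • ⊤ : Submodule A M)) h2
  simpa using h3

end GrothLib.Decaying
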