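import Groth.Agent.Lib.Decaying.Finite
import Groth.Agent.Lib.AdicExtra.Completion
import Groth.Agent.S17539
import Mathlib.RingTheory.AdicCompletion.AsTensorProduct
import Mathlib.LinearAlgebra.TensorProduct.Finiteness

/-!
Completions of free modules as decaying functions.
-/

set_option autoImplicit false
universe u

namespace GrothLib.Decaying

open W4c5adicflatcompl TensorProduct

variable {R : Type u} [CommRing R] [IsNoetherianRing R] (I : Ideal R) (α : Type u)

/-- The completion of a free module is the module of decaying functions. -/
noncomputable def completionEquiv : AdicCompletion I (α →₀ R) ≃ₗ[R] decaying I α (AdicCompletion I R) :=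
  haveI := AdicCompletion.isAdicComplete (I := I) (M := R) (IsNoetherian.noetherian I)
  (LinearEquiv.ofInjective _ (Groth.Agent.S17539.result I α R).1).trans
    (LinearEquiv.ofEq _ _ (Groth.Agent.S17539.result I α R).2)

theorem coe_completionEquiv (x : AdicCompletion I (α →₀ R)) :
    (completionEquiv I α x).1 = LinearMap.pi (fun z : α =>
      (AdicCompletion.map I (Finsupp.lapply (M := R) (R := R) z)).restrictScalars R) x := rfl

theorem flat_completion_finsupp : Module.Flat R (AdicCompletion I (α →₀ R)) := by
  let S := AdicCompletion I R
  let J := I.map (algebraMap R S)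
  have : IsAdicComplete J S := AdicCompletion.isAdicComplete_self I (IsNoetherian.noetherian I)
  have hiff : ∀ (n : ℕ) (x : S), x ∈ (J ^ n • ⊤ : Submodule S S) ↔ x ∈ (I ^ n • ⊤ : Submodule R S) := fun n x => by
    rw [← Submodule.restrictScalars_mem R, ← Ideal.map_pow, Submodule.restrictScalars_map_smul_eq,
      Submodule.restrictScalars_top]
  let e : decaying I α S ≃ₗ[R] decaying J α S :=
    { toFun := fun f => ⟨f.1, fun n => (f.2 n).subset fun z hz h => hz ((hiff n _).2 h)⟩
      invFun := fun f => ⟨f.1, fun n => (f.2 n).subset fun z hz h => hz ((hiff n _).1 h)⟩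
      map_add' := fun f g => rfl
      map_smul' := fun r f => rfl
      left_inv := fun f => rfl
      right_inv := fun f => rfl }
  have := flat_decaying J α
  have : Module.Flat R (decaying J α S) := Module.Flat.trans R S _
  exact Module.Flat.of_linearEquiv ((completionEquiv I α).trans e)

variable [IsAdicComplete I R]

theorem rTensor_subtype_injective (Q : Type u) [AddCommGroup Q] [Module R Q] :
    Function.Injective ((decaying I α R).subtype.rTensor Q) := by
  refine (LinearMap.lTensor_inj_iff_rTensor_inj Q _).1 ((injective_iff_map_eq_zero _).2 fun x hx => ?_)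
  obtain ⟨N, hN, hxN⟩ := exists_finite_submodule_left_of_setFinite {x} (Set.finite_singleton x)
  obtain ⟨y, rfl⟩ := hxN (Set.mem_singleton _)
  have h : tensorMap I α Q (N.subtype.rTensor _ y) = 0 := by
    show TensorProduct.piScalarRightHom R R Q α _ = 0
    rw [hx, map_zero]
  have hy : y = 0 := tensorMap_injective (funext fun z => Subtype.ext (by
    rw [map_zero, Pi.zero_apply, ZeroMemClass.coe_zero]
    rw [show ((tensorMap I α N y z : N) : Q) = N.subtype (tensorMap I α N y z) from rfl, ← tensorMap_natural, h]
    rfl))
  rw [hy, map_zero]

theorem rTensor_completion_pi_injective (Q : Type u) [AddCommGroup Q] [Module R Q] :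
    Function.Injective ((LinearMap.pi (fun z : α =>
      (AdicCompletion.map I (Finsupp.lapply (M := R) (R := R) z)).restrictScalars R) :
        AdicCompletion I (α →₀ R) →ₗ[R] (α → AdicCompletion I R)).rTensor Q) := by
  let o := AdicCompletion.ofLinearEquiv I R
  let eD : decaying I α R ≃ₗ[R] decaying I α (AdicCompletion I R) :=
    LinearEquiv.ofLinearMap (mapDecay _ α fun _ => o.toLinearMap) (mapDecay _ α fun _ => o.symm.toLinearMap)
      (LinearMap.ext fun g => Subtype.ext (funext fun z => o.apply_symm_apply _))
      (LinearMap.ext fun g => Subtype.ext (funext fun z => o.symm_apply_apply _))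
  have h : (LinearMap.pi (fun z : α =>
      (AdicCompletion.map I (Finsupp.lapply (M := R) (R := R) z)).restrictScalars R) :
        AdicCompletion I (α →₀ R) →ₗ[R] (α → AdicCompletion I R)) =
      (LinearEquiv.piCongrRight fun _ : α => o).toLinearMap.comp
        ((decaying I α R).subtype.comp ((completionEquiv I α).trans eD.symm).toLinearMap) := by
    refine LinearMap.ext fun x => funext fun z => ?_
    rw [← coe_completionEquiv]
    exact (o.apply_symm_apply _).symm
  rw [h, LinearMap.rTensor_comp, LinearMap.rTensor_comp]
  exact (LinearEquiv.rTensor Q (LinearEquiv.piCongrRight fun _ : α => o)).injective.comp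
    ((rTensor_subtype_injective I α Q).comp (LinearEquiv.rTensor Q ((completionEquiv I α).trans eD.symm)).injective)

end GrothLib.Decaying
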