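import Groth.Agent.Lib.Decaying.Basic
import Mathlib.RingTheory.Filtration
import Mathlib.RingTheory.AdicCompletion.LocalRing
import Mathlib.RingTheory.Flat.Tensor
import Mathlib.LinearAlgebra.TensorProduct.Pi
import Mathlib.LinearAlgebra.TensorProduct.RightExactness

/-!
Decaying functions with values in finite modules over a complete Noetherian ring: tensor products and
flatness.
-/

set_option autoImplicit false
universe u v w

namespace GrothLib.Decaying

open W4c5adicflatcompl TensorProduct

variable {A : Type u} [CommRing A] [IsNoetherianRing A] {I : Ideal A} {Z : Type v} {M : Type w}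
  [AddCommGroup M] [Module A M] [Module.Finite A M]

theorem isHausdorff_of_finite [IsAdicComplete I A] : IsHausdorff I M :=
  ⟨fun x hx => by
    have h : x ∈ (⨅ n : ℕ, I ^ n • ⊤ : Submodule A M) := Submodule.mem_iInf _ |>.2 fun n => SModEq.zero.1 (hx n)
    rwa [Ideal.iInf_pow_smul_eq_bot_of_le_jacobson I (IsAdicComplete.le_jacobson_bot I), Submodule.mem_bot] at h⟩

/-- By Artin–Rees, decaying in a submodule is decaying in the module. -/
theorem mem_decaying_submodule_iff (N : Submodule A M) (f : Z → N) :
    f ∈ decaying I Z N ↔ (fun z => (f z : M)) ∈ decaying I Z M := by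
  refine ⟨fun hf n => (hf n).subset fun z hz h => hz (map_mem N.subtype h), fun hf n => ?_⟩
  obtain ⟨k, hk⟩ := Ideal.exists_pow_inf_eq_pow_smul I N
  refine (hf (n + k)).subset fun z hz h => hz ?_
  have h1 : (f z : M) ∈ (I ^ (n + k) • ⊤ ⊓ N : Submodule A M) := ⟨h, (f z).2⟩
  rw [hk (n + k) (Nat.le_add_left k n), Nat.add_sub_cancel] at h1
  have h2 : (f z : M) ∈ Submodule.map N.subtype (I ^ n • ⊤) := by
    rw [Submodule.map_smul'', Submodule.map_subtype_top]
    exact Submodule.smul_mono le_rfl inf_le_right h1
  obtain ⟨w, hw, hwz⟩ := h2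
  exact Subtype.ext (show (w : M) = f z from hwz) ▸ hw

/-- The canonical map `M ⊗ D(A) → (Z → M)`. -/
noncomputable def tensorMap (I : Ideal A) (Z : Type v) (M : Type w) [AddCommGroup M] [Module A M] :
    M ⊗[A] decaying I Z A →ₗ[A] (Z → M) :=
  (TensorProduct.piScalarRightHom A A M Z) ∘ₗ ((decaying I Z A).subtype.lTensor M)

omit [Module.Finite A M] [IsNoetherianRing A] in
theorem tensorMap_tmul (m : M) (g : decaying I Z A) (z : Z) : tensorMap I Z M (m ⊗ₜ g) z = g.1 z • m := rfl

omit [IsNoetherianRing A] [Module.Finite A M] in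
theorem tensorMap_natural {N : Type*} [AddCommGroup N] [Module A N] (φ : M →ₗ[A] N)
    (x : M ⊗[A] decaying I Z A) (z : Z) :
    tensorMap I Z N (φ.rTensor _ x) z = φ (tensorMap I Z M x z) := by
  induction x using TensorProduct.induction_on with
  | zero => simp
  | tmul m g => rw [LinearMap.rTensor_tmul, tensorMap_tmul, tensorMap_tmul, map_smul]
  | add a b ha hb => simp [ha, hb]

theorem tensorMap_mem (x : M ⊗[A] decaying I Z A) : tensorMap I Z M x ∈ decaying I Z M := by
  induction x using TensorProduct.induction_on with
  | zero => rw [map_zero]; exact zero_mem _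
  | tmul m g =>
    exact fun n => (g.2 n).subset fun z hz h => hz (map_mem (LinearMap.toSpanSingleton A M m) h)
  | add a b ha hb => rw [map_add]; exact add_mem ha hb

variable [IsAdicComplete I A]

theorem tensorMap_range : LinearMap.range (tensorMap I Z M) = decaying I Z M := by
  refine le_antisymm ?_ ?_
  · rintro _ ⟨x, rfl⟩; exact tensorMap_mem x
  · intro f hf
    obtain ⟨t, π, hπ⟩ := Module.Finite.exists_fin' A M
    have := isHausdorff_of_finite (I := I) (M := M)
    obtain ⟨g, hg⟩ := exists_lift π hπ (⟨f, hf⟩ : decaying I Z M)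
    let c : Fin t → decaying I Z A := fun i => mapDecay I Z (fun _ => LinearMap.proj i) g
    refine ⟨π.rTensor _ (∑ i, (Pi.single i (1 : A) : Fin t → A) ⊗ₜ c i), funext fun z => ?_⟩
    rw [tensorMap_natural, show f z = π (g.1 z) from (hg z).symm]
    congr 1
    rw [map_sum, Finset.sum_apply]
    simp only [tensorMap_tmul, c, mapDecay_apply, LinearMap.proj_apply]
    exact (pi_eq_sum_univ' (g.1 z)).symm

theorem tensorMap_injective_pi (t : ℕ) : Function.Injective (tensorMap I Z (Fin t → A)) := by
  rw [injective_iff_map_eq_zero]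
  intro x hx
  refine (TensorProduct.piScalarRight A A (decaying I Z A) (Fin t)).injective.comp
    (TensorProduct.comm A (Fin t → A) (decaying I Z A)).injective ?_
  rw [Function.comp_apply, Function.comp_apply, map_zero, map_zero]
  have key : ∀ (y : (Fin t → A) ⊗[A] decaying I Z A) (i : Fin t) (z : Z),
      (TensorProduct.piScalarRight A A (decaying I Z A) (Fin t) (TensorProduct.comm A _ _ y) i).1 z =
        tensorMap I Z (Fin t → A) y z i := by
    intro y i z
    induction y using TensorProduct.induction_on with
    | zero => simp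
    | tmul a g =>
      rw [TensorProduct.comm_tmul, TensorProduct.piScalarRight_apply, TensorProduct.piScalarRightHom_tmul,
        tensorMap_tmul]
      simp [mul_comm]
    | add a b ha hb =>
      simp only [map_add, Pi.add_apply, Submodule.coe_add, ha, hb]
  funext i
  refine Subtype.ext (funext fun z => ?_)
  rw [key, hx]
  rfl

theorem tensorMap_injective : Function.Injective (tensorMap I Z M) := by
  obtain ⟨t, π, hπ⟩ := Module.Finite.exists_fin' A M
  rw [injective_iff_map_eq_zero]
  intro x hx
  obtain ⟨y, rfl⟩ := LinearMap.rTensor_surjective (decaying I Z A) hπ x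
  let K := LinearMap.ker π
  let f : Z → K := fun z => ⟨tensorMap I Z _ y z, by
    rw [LinearMap.mem_ker, ← tensorMap_natural, hx]; rfl⟩
  have hf : f ∈ decaying I Z K := (mem_decaying_submodule_iff K f).2 (tensorMap_mem y)
  have hr := tensorMap_range (I := I) (Z := Z) (M := K)
  obtain ⟨w, hw⟩ := (hr ▸ hf : f ∈ LinearMap.range (tensorMap I Z K))
  have : K.subtype.rTensor _ w = y := tensorMap_injective_pi t (funext fun z => by
    rw [tensorMap_natural, hw]; rfl)
  rw [← this]
  exact (rTensor_exact _ π.exact_subtype_ker_map hπ).apply_apply_eq_zero w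

theorem flat_decaying (I : Ideal A) [IsAdicComplete I A] (Z : Type v) : Module.Flat A (decaying I Z A) := by
  rw [Module.Flat.iff_rTensor_injective']
  intro J x y h
  refine tensorMap_injective (I := I) (Z := Z) (M := J) (funext fun z => Subtype.ext ?_)
  have h1 := congrArg (fun w => tensorMap I Z A w z) h
  simp only [tensorMap_natural] at h1
  exact h1

end GrothLib.Decaying
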