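import Groth.Agent.Lib.Decaying.Finite
import Groth.Agent.Lib.AdicExtra.Complete
import Mathlib.RingTheory.LocalRing.Module
import Mathlib.LinearAlgebra.TensorProduct.Quotient
import Mathlib.RingTheory.Flat.Stability

/-!
Adically free modules over a complete Noetherian local ring.
-/

set_option autoImplicit false
universe u

namespace GrothLib.Decaying

open W4c5adicflatcompl IsLocalRing TensorProduct

variable {A : Type u} [CommRing A]

theorem isAdicComplete_of_killed {I : Ideal A} {M : Type*} [AddCommGroup M] [Module A M] {N : ℕ}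
    (h : (I ^ N • ⊤ : Submodule A M) = ⊥) : IsAdicComplete I M := by
  have hH : IsHausdorff I M := ⟨fun x hx => by
    have := SModEq.zero.1 (hx N)
    rwa [h, Submodule.mem_bot] at this⟩
  have hP : IsPrecomplete I M := ⟨fun f hf => ⟨f N, fun n => by
    rcases le_total n N with hn | hn
    · exact hf hn
    · have := SModEq.sub_mem.1 (hf hn)
      rw [h, Submodule.mem_bot, sub_eq_zero] at this
      rw [this]⟩⟩
  exact {hH, hP with}

theorem adicSum_eq_sum {I : Ideal A} {Z : Type*} {M : Type*} [AddCommGroup M] [Module A M] [IsAdicComplete I M]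
    {N : ℕ} (h : (I ^ N • ⊤ : Submodule A M) = ⊥) (g : decaying I Z M) {S : Finset Z}
    (hS : ∀ z, z ∉ S → g.1 z ∈ (I ^ N • ⊤ : Submodule A M)) : adicSum I Z M g = ∑ z ∈ S, g.1 z := by
  have h1 := adicSum_sub_mem g hS
  rwa [h, Submodule.mem_bot, sub_eq_zero] at h1

variable [IsLocalRing A] (M : ℕ → Type u) [∀ n, AddCommGroup (M n)] [∀ n, Module A (M n)]
    [∀ n, Module (A ⧸ maximalIdeal A ^ (n + 1)) (M n)]
    [∀ n, IsScalarTower A (A ⧸ maximalIdeal A ^ (n + 1)) (M n)]
    (ψ : ∀ n, M (n + 1) →ₗ[A] M n)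

omit [IsLocalRing A] in
theorem smul_eq_zero_of_mem {J : Ideal A} {P : Type*} [AddCommGroup P] [Module A P] [Module (A ⧸ J) P]
    [IsScalarTower A (A ⧸ J) P] {a : A} (ha : a ∈ J) (x : P) : a • x = 0 := by
  rw [← algebraMap_smul (A ⧸ J) a x, Ideal.Quotient.algebraMap_eq, Ideal.Quotient.eq_zero_iff_mem.2 ha, zero_smul]

theorem killed (n : ℕ) : (maximalIdeal A ^ (n + 1) • ⊤ : Submodule A (M n)) = ⊥ :=
  eq_bot_iff.2 (Submodule.smul_le.2 fun a ha x _ => by rw [smul_eq_zero_of_mem ha x]; exact zero_mem _)

/-- The composite projection to level zero. -/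
noncomputable def toZero : ∀ n, M n →ₗ[A] M 0
  | 0 => LinearMap.id
  | n + 1 => (toZero n).comp (ψ n)

variable {M ψ}

theorem ker_toZero (hψ : ∀ n, Function.Surjective (ψ n))
    (hker : ∀ n, LinearMap.ker (ψ n) = (maximalIdeal A ^ (n + 1) • ⊤ : Submodule A (M (n + 1)))) (n : ℕ) :
    LinearMap.ker (toZero M ψ n) ≤ maximalIdeal A • (⊤ : Submodule A (M n)) := by
  induction n with
  | zero => rw [show toZero M ψ 0 = LinearMap.id from rfl, LinearMap.ker_id]; exact bot_le
  | succ n ih =>
    intro x hx
    have h1 : ψ n x ∈ maximalIdeal A • (⊤ : Submodule A (M n)) := ih hx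
    rw [← LinearMap.range_eq_top.2 (hψ n), ← Submodule.map_top, ← Submodule.map_smul''] at h1
    obtain ⟨y, hy, hyx⟩ := h1
    have h2 : x - y ∈ LinearMap.ker (ψ n) := by rw [LinearMap.mem_ker, map_sub, hyx, sub_self]
    rw [hker, pow_succ', Submodule.mul_smul] at h2
    have h3 := Submodule.add_mem _ hy (Submodule.smul_mono le_rfl le_top h2)
    rwa [add_sub_cancel] at h3

theorem toZero_sysProj (x : sysLim M ψ) (n : ℕ) : toZero M ψ n (x.1 n) = x.1 0 := by
  induction n with
  | zero => rfl
  | succ n ih => rw [← ih, ← x.2 n]; rfl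

omit [∀ n, Module (A ⧸ maximalIdeal A ^ (n + 1)) (M n)] [∀ n, IsScalarTower A (A ⧸ maximalIdeal A ^ (n + 1)) (M n)] in
theorem sysProj_surjective (hψ : ∀ n, Function.Surjective (ψ n)) (n : ℕ) :
    Function.Surjective (sysProj M ψ n) := by
  induction n generalizing M with
  | zero =>
    intro y
    choose s hs using hψ
    exact ⟨⟨fun k => Nat.rec y (fun j z => s j z) k, fun k => hs k _⟩, rfl⟩
  | succ n ih =>
    intro y
    obtain ⟨x, hx⟩ := ih (M := fun k => M (k + 1)) (ψ := fun k => ψ (k + 1)) (fun k => hψ (k + 1)) y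
    refine ⟨⟨fun k => match k with
      | 0 => ψ 0 (x.1 0)
      | j + 1 => x.1 j, fun k => ?_⟩, hx⟩
    cases k with
    | zero => rfl
    | succ j => exact x.2 j

theorem span_sup_of_toZero (hψ : ∀ n, Function.Surjective (ψ n))
    (hker : ∀ n, LinearMap.ker (ψ n) = (maximalIdeal A ^ (n + 1) • ⊤ : Submodule A (M (n + 1))))
    {Z : Type u} (f : Z → sysLim M ψ)
    (hspan : Submodule.span A (Set.range fun z => (f z).1 0) = ⊤) (n : ℕ) :
    Submodule.span A (Set.range fun z => (f z).1 n) = ⊤ := by
  have hsup : Submodule.span A (Set.range fun z => (f z).1 n) ⊔ maximalIdeal A • ⊤ = ⊤ := by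
    rw [eq_top_iff]
    intro x _
    have h : toZero M ψ n x ∈ Submodule.map (toZero M ψ n) (Submodule.span A (Set.range fun z => (f z).1 n)) := by
      rw [Submodule.map_span, ← Set.range_comp,
        show (toZero M ψ n ∘ fun z => (f z).1 n) = fun z => (f z).1 0 from funext fun z => toZero_sysProj _ n, hspan]
      trivial
    obtain ⟨w, hw, hwx⟩ := h
    rw [← add_sub_cancel w x]
    exact Submodule.add_mem_sup hw (ker_toZero hψ hker n (by rw [LinearMap.mem_ker, map_sub, hwx, sub_self]))
  have key : ∀ j : ℕ, Submodule.span A (Set.range fun z => (f z).1 n) ⊔ maximalIdeal A ^ j • ⊤ = ⊤ := by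
    intro j
    induction j with
    | zero => simp
    | succ j ih =>
      rw [eq_top_iff]
      conv_lhs => rw [← ih]
      refine sup_le le_sup_left ?_
      conv_lhs => rw [← hsup]
      rw [Submodule.smul_sup, ← Submodule.mul_smul, ← pow_succ]
      exact sup_le (Submodule.smul_le_right.trans le_sup_left) le_sup_right
  have h := key (n + 1)
  rwa [killed M n, sup_bot_eq] at h

theorem coeff_mem_of_sum_eq_zero [∀ n, Module.Flat (A ⧸ maximalIdeal A ^ (n + 1)) (M n)]
    {Z : Type u} (f : Z → sysLim M ψ)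
    (hind : ∀ (S : Finset Z) (a : Z → A), (∑ z ∈ S, a z • (f z).1 0) = 0 → ∀ z ∈ S, a z ∈ maximalIdeal A)
    (n : ℕ) (S : Finset Z) (a : Z → A) (h : ∑ z ∈ S, a z • (f z).1 n = 0) :
    ∀ z ∈ S, a z ∈ maximalIdeal A ^ (n + 1) := by
  classical
  let J := maximalIdeal A ^ (n + 1)
  have : Nontrivial (A ⧸ J) := Ideal.Quotient.nontrivial_iff.2 fun e =>
    (maximalIdeal.isMaximal A).ne_top (eq_top_iff.2 (e ▸ Ideal.pow_le_self (Nat.succ_ne_zero n)))
  have : IsLocalRing (A ⧸ J) := IsLocalRing.of_surjective' _ Ideal.Quotient.mk_surjective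
  have hmk : ∀ r : A, Ideal.Quotient.mk J r ∈ maximalIdeal (A ⧸ J) ↔ r ∈ maximalIdeal A := fun r => by
    have : IsLocalHom (Ideal.Quotient.mk J) := IsLocalHom.of_surjective _ Ideal.Quotient.mk_surjective
    rw [mem_maximalIdeal, mem_maximalIdeal, mem_nonunits_iff, mem_nonunits_iff, isUnit_map_iff]
  have hli : LinearIndependent (A ⧸ J) (fun z => (f z).1 n) := by
    refine Module.IsLocalRing.linearIndependent_of_flat _ ?_
    rw [linearIndependent_iff']
    intro T c hc z hz
    choose r hr using fun z => residue_surjective (R := A ⧸ J) (c z)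
    choose a' ha' using fun z => Ideal.Quotient.mk_surjective (I := J) (r z)
    have h1 : (1 : ResidueField (A ⧸ J)) ⊗ₜ[A ⧸ J] (∑ z ∈ T, r z • (f z).1 n) = 0 := by
      rw [TensorProduct.tmul_sum, ← hc]
      refine Finset.sum_congr rfl fun w _ => ?_
      rw [TensorProduct.tmul_smul, ← hr w]
      show r w • ((1 : ResidueField (A ⧸ J)) ⊗ₜ[A ⧸ J] (f w).1 n) = _
      rw [← algebraMap_smul (ResidueField (A ⧸ J)) (r w)]
      rfl
    have h2 : (∑ z ∈ T, r z • (f z).1 n) ∈ maximalIdeal (A ⧸ J) • (⊤ : Submodule (A ⧸ J) (M n)) := by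
      rw [← (Submodule.Quotient.mk_eq_zero _), ← (quotTensorEquivQuotSMul (M n) (maximalIdeal (A ⧸ J))).symm.map_eq_zero_iff]
      exact h1
    have h3 : toZero M ψ n (∑ z ∈ T, r z • (f z).1 n) = 0 := by
      refine Submodule.smul_induction_on h2 (fun b hb x _ => ?_) (fun x y hx hy => by rw [map_add, hx, hy, add_zero])
      obtain ⟨b, rfl⟩ := Ideal.Quotient.mk_surjective b
      rw [← Ideal.Quotient.algebraMap_eq, algebraMap_smul, map_smul]
      exact smul_eq_zero_of_mem (J := maximalIdeal A ^ (0 + 1)) (by simpa using (hmk b).1 hb) _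
    have h4 : ∑ z ∈ T, a' z • (f z).1 0 = 0 := by
      rw [← h3, map_sum]
      refine Finset.sum_congr rfl fun w _ => ?_
      rw [← ha' w, ← Ideal.Quotient.algebraMap_eq, algebraMap_smul, map_smul, toZero_sysProj]
    rw [← hr z, residue_eq_zero_iff, ← ha' z]
    exact (hmk _).2 (hind T a' h4 z hz)
  intro z hz
  rw [← Ideal.Quotient.eq_zero_iff_mem]
  refine linearIndependent_iff'.1 hli S (fun w => Ideal.Quotient.mk J (a w)) ?_ z hz
  rw [← h]
  exact Finset.sum_congr rfl fun w _ => by rw [← Ideal.Quotient.algebraMap_eq, algebraMap_smul]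

variable [IsNoetherianRing A] [IsAdicComplete (maximalIdeal A) A]

theorem exists_equiv_sysLim [∀ n, Module.Flat (A ⧸ maximalIdeal A ^ (n + 1)) (M n)]
    (hψ : ∀ n, Function.Surjective (ψ n))
    (hker : ∀ n, LinearMap.ker (ψ n) = (maximalIdeal A ^ (n + 1) • ⊤ : Submodule A (M (n + 1)))) :
    ∃ Z : Type u, ∃ φ : decaying (maximalIdeal A) Z A →ₗ[A] sysLim M ψ, Function.Bijective φ ∧
      ∀ n, LinearMap.ker (sysProj M ψ n) =
        (maximalIdeal A ^ (n + 1) • ⊤ : Submodule A (sysLim M ψ)) := by
  classical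
  -- a basis at level zero
  have : Fact ((maximalIdeal A ^ (0 + 1)).IsMaximal) := ⟨by rw [zero_add, pow_one]; exact maximalIdeal.isMaximal A⟩
  let : Field (A ⧸ maximalIdeal A ^ (0 + 1)) := @Ideal.Quotient.field _ _ _ (Fact.out)
  let b := Module.Free.chooseBasis (A ⧸ maximalIdeal A ^ (0 + 1)) (M 0)
  let Z := Module.Free.ChooseBasisIndex (A ⧸ maximalIdeal A ^ (0 + 1)) (M 0)
  choose f hf using fun z : Z => sysProj_surjective hψ 0 (b z)
  have hspan0 : Submodule.span A (Set.range fun z => (f z).1 0) = ⊤ := by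
    rw [show (fun z => (f z).1 0) = ⇑b from funext hf]
    exact (Submodule.restrictScalars_span A (A ⧸ maximalIdeal A ^ (0 + 1)) Ideal.Quotient.mk_surjective
      (Set.range b)).symm.trans (by rw [b.span_eq, Submodule.restrictScalars_top])
  have hind0 : ∀ (S : Finset Z) (a : Z → A), (∑ z ∈ S, a z • (f z).1 0) = 0 → ∀ z ∈ S, a z ∈ maximalIdeal A := by
    intro S a h z hz
    have := linearIndependent_iff'.1 b.linearIndependent S (fun w => Ideal.Quotient.mk _ (a w)) (by
      rw [← h]
      exact Finset.sum_congr rfl fun w _ => by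
        rw [← Ideal.Quotient.algebraMap_eq, algebraMap_smul, show (f w).1 0 = b w from hf w]) z hz
    simpa [Ideal.Quotient.eq_zero_iff_mem] using this
  have hspan := span_sup_of_toZero hψ hker f hspan0
  have hind := coeff_mem_of_sum_eq_zero f hind0
  have hc : ∀ n, IsAdicComplete (maximalIdeal A) (M n) := fun n => isAdicComplete_of_killed (killed M n)
  let I := maximalIdeal A
  let c : ∀ n, decaying I Z A →ₗ[A] decaying I Z (M n) := fun n =>
    mapDecay I Z fun z => LinearMap.toSpanSingleton A (M n) ((f z).1 n)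
  have hout : ∀ n (g : decaying I Z A) (S : Finset Z), bad g (n + 1) ⊆ S → ∀ z, z ∉ S →
      (c n g).1 z ∈ (I ^ (n + 1) • ⊤ : Submodule A (M n)) := fun n g S hS z hz =>
    map_mem (LinearMap.toSpanSingleton A (M n) ((f z).1 n)) (mem_of_notMem_bad g fun h => hz (hS h))
  have hφn : ∀ n (g : decaying I Z A) (S : Finset Z), bad g (n + 1) ⊆ S →
      adicSum I Z (M n) (c n g) = ∑ z ∈ S, g.1 z • (f z).1 n := fun n g S hS =>
    adicSum_eq_sum (killed M n) (c n g) (hout n g S hS)
  let φ : decaying I Z A →ₗ[A] sysLim M ψ :=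
    (LinearMap.pi fun n => (adicSum I Z (M n)).comp (c n)).codRestrict _ fun g n => by
      show ψ n (adicSum I Z (M (n + 1)) (c (n + 1) g)) = adicSum I Z (M n) (c n g)
      rw [hφn (n + 1) g (bad g (n + 2) ∪ bad g (n + 1)) Finset.subset_union_left,
        hφn n g (bad g (n + 2) ∪ bad g (n + 1)) Finset.subset_union_right, map_sum]
      exact Finset.sum_congr rfl fun z _ => by rw [map_smul, (f z).2 n]
  have hφ : ∀ n (g : decaying I Z A) (S : Finset Z), bad g (n + 1) ⊆ S →
      (φ g).1 n = ∑ z ∈ S, g.1 z • (f z).1 n := hφn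
  have hzero : ∀ n g, (φ g).1 n = 0 → ∀ z, g.1 z ∈ (I ^ (n + 1) • ⊤ : Submodule A A) := by
    intro n g hg z
    by_cases hz : z ∈ bad g (n + 1)
    · rw [hφ n g _ subset_rfl] at hg
      simpa using hind n _ (fun w => g.1 w) hg z hz
    · exact mem_of_notMem_bad g hz
  have hinj : Function.Injective φ := by
    rw [injective_iff_map_eq_zero]
    intro g hg
    refine Subtype.ext (funext fun z => eq_zero_of_forall_mem (I := I) fun n => ?_)
    exact Submodule.smul_mono_left (Ideal.pow_le_pow_right n.le_succ) (hzero n g (by rw [hg]; rfl) z)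
  have hsurj : Function.Surjective φ := by
    intro x
    have hl : ∀ n, ∃ l : Z →₀ A, Finsupp.linearCombination A (fun z => (f z).1 n) l = x.1 n := fun n =>
      Finsupp.mem_span_range_iff_exists_finsupp.1 (hspan n ▸ Submodule.mem_top) |>.imp fun l hl => by
        rw [Finsupp.linearCombination_apply]; exact hl
    choose l hl using hl
    have hdiff : ∀ n z, l (n + 1) z - l n z ∈ (I ^ (n + 1) • ⊤ : Submodule A A) := by
      intro n z
      let S := (l (n + 1)).support ∪ (l n).support
      by_cases hz : z ∈ S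
      · have h0 : ∑ w ∈ S, (l (n + 1) w - l n w) • (f w).1 n = 0 := by
          have e : ∀ (m : Z →₀ A), m.support ⊆ S →
              Finsupp.linearCombination A (fun w => (f w).1 n) m = ∑ w ∈ S, m w • (f w).1 n := fun m hm => by
            rw [Finsupp.linearCombination_apply, Finsupp.sum_of_support_subset m hm _ (by simp)]
          simp only [sub_smul, Finset.sum_sub_distrib]
          rw [← e _ Finset.subset_union_left, ← e _ Finset.subset_union_right, hl n, sub_eq_zero, ← x.2 n, ← hl (n + 1),
            Finsupp.linearCombination_apply, Finsupp.linearCombination_apply, map_finsuppSum]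
          exact Finsupp.sum_congr fun w _ => by rw [map_smul, (f w).2 n]
        simpa using hind n S _ h0 z hz
      · rw [Finsupp.notMem_support_iff.1 fun h => hz (Finset.mem_union_left _ h),
          Finsupp.notMem_support_iff.1 fun h => hz (Finset.mem_union_right _ h), sub_self]
        exact zero_mem _
    have hcau : ∀ z {m n : ℕ}, m ≤ n → l n z - l m z ∈ (I ^ (m + 1) • ⊤ : Submodule A A) := by
      intro z m n hmn
      induction n, hmn using Nat.le_induction with
      | base => simp
      | succ n hmn ih =>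
        have h := Submodule.add_mem _
          (Submodule.smul_mono_left (Ideal.pow_le_pow_right (Nat.succ_le_succ hmn)) (hdiff n z)) ih
        rwa [sub_add_sub_cancel] at h
    have hlim : ∀ z, ∃ L : A, ∀ n, l n z ≡ L [SMOD (I ^ n • ⊤ : Submodule A A)] := fun z =>
      IsPrecomplete.prec (inferInstance : IsPrecomplete I A) fun {m n} hmn => by
        rw [SModEq.sub_mem]
        have h := Submodule.neg_mem _ (hcau z hmn)
        rw [neg_sub] at h
        exact Submodule.smul_mono_left (Ideal.pow_le_pow_right m.le_succ) h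
    choose L hL using hlim
    have hL' : ∀ n z, L z - l n z ∈ (I ^ (n + 1) • ⊤ : Submodule A A) := fun n z => by
      have h := Submodule.sub_mem _ (hcau z n.le_succ) (SModEq.sub_mem.1 (hL z (n + 1)))
      rwa [sub_sub_sub_cancel_left] at h
    have hLd : L ∈ decaying I Z A := fun n => ((l n).support.finite_toSet).subset fun z hz => by
      by_contra h
      refine hz (Submodule.smul_mono_left (Ideal.pow_le_pow_right n.le_succ) ?_)
      simpa [Finsupp.notMem_support_iff.1 h] using hL' n z
    refine ⟨⟨L, hLd⟩, Subtype.ext (funext fun n => ?_)⟩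
    rw [hφ n ⟨L, hLd⟩ (bad (⟨L, hLd⟩ : decaying I Z A) (n + 1) ∪ (l n).support) Finset.subset_union_left,
      ← hl n, Finsupp.linearCombination_apply, Finsupp.sum_of_support_subset _ Finset.subset_union_right _ (by simp)]
    refine Finset.sum_congr rfl fun z _ => sub_eq_zero.1 ?_
    show L z • (f z).1 n - l n z • (f z).1 n = 0
    rw [← sub_smul]
    exact smul_eq_zero_of_mem (J := I ^ (n + 1)) (by simpa using hL' n z) _
  refine ⟨Z, φ, ⟨hinj, hsurj⟩, fun n => le_antisymm ?_ ?_⟩
  · intro x hx
    obtain ⟨g, rfl⟩ := hsurj x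
    refine map_mem φ ?_
    rw [mem_smul_top_iff (IsNoetherian.noetherian _)]
    exact hzero n g hx
  · rw [Submodule.smul_le]
    exact fun a ha x _ => by
      rw [LinearMap.mem_ker, map_smul]
      exact smul_eq_zero_of_mem ha _

/-- `D(A) ≅ D(Â)` for complete `A`. -/
noncomputable def decayingEquiv (Z : Type u) :
    decaying (maximalIdeal A) Z A ≃ₗ[A] decaying (maximalIdeal A) Z (AdicCompletion (maximalIdeal A) A) :=
  LinearEquiv.ofLinearMap (mapDecay _ Z fun _ => (AdicCompletion.ofLinearEquiv (maximalIdeal A) A).toLinearMap)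
    (mapDecay _ Z fun _ => (AdicCompletion.ofLinearEquiv (maximalIdeal A) A).symm.toLinearMap)
    (LinearMap.ext fun g => Subtype.ext (funext fun z =>
      (AdicCompletion.ofLinearEquiv (maximalIdeal A) A).apply_symm_apply _))
    (LinearMap.ext fun g => Subtype.ext (funext fun z =>
      (AdicCompletion.ofLinearEquiv (maximalIdeal A) A).symm_apply_apply _))

omit [IsLocalRing A] [IsNoetherianRing A] [IsAdicComplete (maximalIdeal A) A] in
theorem flat_quotient (P : Type u) [AddCommGroup P] [Module A P] [Module.Flat A P] (J : Ideal A) :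
    Module.Flat (A ⧸ J) (P ⧸ (J • ⊤ : Submodule A P)) := by
  let e := TensorProduct.quotTensorEquivQuotSMul P J
  exact Module.Flat.of_linearEquiv (M := (A ⧸ J) ⊗[A] P)
    (e.symm.extendScalarsOfSurjective Ideal.Quotient.mk_surjective)

theorem isAdicFree_iff (P : Type u) [AddCommGroup P] [Module A P] :
    IsAdicFree (maximalIdeal A) P ↔ Module.Flat A P ∧ IsAdicComplete (maximalIdeal A) P := by
  constructor
  · rintro ⟨Z, ⟨e⟩⟩
    let e' := e.trans (decayingEquiv Z).symm
    have := flat_decaying (maximalIdeal A) Z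
    have := isAdicComplete_decaying (I := maximalIdeal A) (Z := Z) (M := A) (IsNoetherian.noetherian _)
    exact ⟨Module.Flat.of_linearEquiv e', AdicExtra.isAdicComplete_of_retract e'.toLinearMap e'.symm.toLinearMap
      e'.symm_apply_apply⟩
  · rintro ⟨hflat, hc⟩
    let I := maximalIdeal A
    let T : ℕ → Type u := fun n => P ⧸ (I ^ (n + 1) • ⊤ : Submodule A P)
    have hle : ∀ n, (I ^ (n + 1 + 1) • ⊤ : Submodule A P) ≤ I ^ (n + 1) • ⊤ := fun n =>
      Submodule.smul_mono_left (Ideal.pow_le_pow_right (Nat.le_succ _))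
    let ψ : ∀ n, T (n + 1) →ₗ[A] T n := fun n => Submodule.factor (hle n)
    have hψ : ∀ n, Function.Surjective (ψ n) := fun n => Submodule.factor_surjective (hle n)
    have hker : ∀ n, LinearMap.ker (ψ n) = (maximalIdeal A ^ (n + 1) • ⊤ : Submodule A (T (n + 1))) := fun n => by
      rw [show ψ n = Submodule.liftQ _ (Submodule.mkQ _) (by rw [Submodule.ker_mkQ]; exact hle n) from rfl,
        Submodule.ker_liftQ, Submodule.ker_mkQ, Submodule.map_smul'', Submodule.map_top, Submodule.range_mkQ]
    have : ∀ n, Module.Flat (A ⧸ maximalIdeal A ^ (n + 1)) (T n) := fun n => flat_quotient P _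
    obtain ⟨Z, φ, hφ, -⟩ := exists_equiv_sysLim (M := T) hψ hker
    let ι : P →ₗ[A] sysLim T ψ := (LinearMap.pi fun n => Submodule.mkQ _).codRestrict _ fun x n => rfl
    have hι : Function.Bijective ι := by
      constructor
      · rw [injective_iff_map_eq_zero]
        intro x hx
        refine eq_zero_of_forall_mem (I := maximalIdeal A) fun n => ?_
        exact Submodule.smul_mono_left (Ideal.pow_le_pow_right n.le_succ)
          ((Submodule.Quotient.mk_eq_zero _).1 (congrArg (fun y : sysLim T ψ => y.1 n) hx))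
      · intro x
        choose y hy using fun n => Submodule.mkQ_surjective _ (x.1 n)
        have hcau : ∀ {m n}, m ≤ n → y n - y m ∈ (I ^ (m + 1) • ⊤ : Submodule A P) := by
          intro m n hmn
          induction n, hmn using Nat.le_induction with
          | base => simp
          | succ n hmn ih =>
            have h : y (n + 1) - y n ∈ (I ^ (n + 1) • ⊤ : Submodule A P) := by
              refine (Submodule.Quotient.eq _).1 ?_
              show ψ n (Submodule.mkQ _ (y (n + 1))) = Submodule.mkQ _ (y n)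
              rw [hy, hy]; exact x.2 n
            have h' := Submodule.add_mem _
              (Submodule.smul_mono_left (Ideal.pow_le_pow_right (Nat.succ_le_succ hmn)) h) ih
            rwa [sub_add_sub_cancel] at h'
        obtain ⟨L, hL⟩ := IsPrecomplete.prec (inferInstance : IsPrecomplete (maximalIdeal A) P) (f := y)
          fun {m n} hmn => by
            rw [SModEq.sub_mem]
            have h := Submodule.neg_mem _ (hcau hmn)
            rw [neg_sub] at h
            exact Submodule.smul_mono_left (Ideal.pow_le_pow_right m.le_succ) h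
        refine ⟨L, Subtype.ext (funext fun n => ?_)⟩
        rw [← hy n]
        refine (Submodule.Quotient.eq _).2 ?_
        have h := Submodule.sub_mem _ (hcau n.le_succ) (SModEq.sub_mem.1 (hL (n + 1)))
        rwa [sub_sub_sub_cancel_left] at h
    exact ⟨Z, ⟨(LinearEquiv.ofBijective ι hι).trans ((LinearEquiv.ofBijective φ hφ).symm.trans (decayingEquiv Z))⟩⟩

end GrothLib.Decaying
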